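import Mathlib

/-!
# Finitely many functions give an immersion
-/

universe u

open CategoryTheory CategoryTheory.Limits AlgebraicGeometry AffineSpace

set_option autoImplicit false
set_option backward.isDefEq.respectTransparency false

namespace Groth.Agent.AlgSpB.AffEmb

/-- The functions on a product of affine schemes are generated by those of the factors. -/
theorem closure_eq_top (U V : Scheme.{u}) [IsAffine U] [IsAffine V] :
    Subring.closure
      (Set.range (pullback.fst (terminal.from U) (terminal.from V)).appTop ∪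
        Set.range (pullback.snd (terminal.from U) (terminal.from V)).appTop) = ⊤ := by
  let p₁ := pullback.fst (terminal.from U) (terminal.from V)
  let p₂ := pullback.snd (terminal.from U) (terminal.from V)
  let P := pullback (terminal.from U) (terminal.from V)
  let T := Subring.closure (Set.range p₁.appTop ∪ Set.range p₂.appTop)
  let f₁ : Γ(U, ⊤) ⟶ CommRingCat.of T :=
    CommRingCat.ofHom (p₁.appTop.hom.codRestrict T fun x => Subring.subset_closure (Or.inl ⟨x, rfl⟩))
  let f₂ : Γ(V, ⊤) ⟶ CommRingCat.of T :=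
    CommRingCat.ofHom (p₂.appTop.hom.codRestrict T fun x => Subring.subset_closure (Or.inr ⟨x, rfl⟩))
  let ι : CommRingCat.of T ⟶ Γ(P, ⊤) := CommRingCat.ofHom T.subtype
  have e₁ : f₁ ≫ ι = p₁.appTop := rfl
  have e₂ : f₂ ≫ ι = p₂.appTop := rfl
  let m : Spec (CommRingCat.of T) ⟶ P :=
    pullback.lift (Spec.map f₁ ≫ U.isoSpec.inv) (Spec.map f₂ ≫ V.isoSpec.inv) (terminal.hom_ext _ _)
  have hm : P.isoSpec.hom ≫ Spec.map ι ≫ m = 𝟙 P := by
    apply pullback.hom_ext
    · simp only [m, Category.assoc, pullback.lift_fst, Category.id_comp]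
      rw [← Spec.map_comp_assoc, e₁, Scheme.isoSpec_hom_naturality_assoc, Iso.hom_inv_id, Category.comp_id]
    · simp only [m, Category.assoc, pullback.lift_snd, Category.id_comp]
      rw [← Spec.map_comp_assoc, e₂, Scheme.isoSpec_hom_naturality_assoc, Iso.hom_inv_id, Category.comp_id]
  refine eq_top_iff.2 fun x _ => ?_
  have hsurj : Function.Surjective (P.isoSpec.hom ≫ Spec.map ι).appTop := by
    intro y
    refine ⟨m.appTop y, ?_⟩
    rw [← CategoryTheory.comp_apply, ← Scheme.Hom.comp_appTop, Category.assoc, hm, Scheme.Hom.id_appTop]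
    rfl
  obtain ⟨y, hy⟩ := hsurj x
  let t := (Scheme.ΓSpecIso (CommRingCat.of T)).hom y
  have : x = ι t := by
    rw [← hy, Scheme.Hom.comp_appTop]
    have e := congr($(Scheme.ΓSpecIso_naturality ι) y)
    rw [CategoryTheory.comp_apply, CategoryTheory.comp_apply] at e
    rw [CategoryTheory.comp_apply, show ι t = _ from e.symm]
    exact congrFun (congrArg (fun k : Γ(Spec Γ(P, ⊤), ⊤) ⟶ Γ(P, ⊤) => (k : _ → _))
      (show P.isoSpec.hom.appTop = (Scheme.ΓSpecIso Γ(P, ⊤)).hom from Scheme.toSpecΓ_appTop P)) _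
  rw [this]
  exact t.2

theorem appTop_symm_apply {X : Scheme.{u}} {σ : Type u} (v : σ → Γ(X, ⊤)) (i : σ) :
    ((toSpecMvPolyIntEquiv σ).symm v).appTop
      ((Scheme.ΓSpecIso (CommRingCat.of (MvPolynomial σ (ULift.{u} ℤ)))).inv (MvPolynomial.X i)) = v i :=
  congrFun ((toSpecMvPolyIntEquiv σ).apply_symm_apply v) i

/-- Functions generated by those in the image of `φ` and those of `V` come from the product. -/
theorem exists_appTop_lift {U V A : Scheme.{u}} (φ : U ⟶ A) (F : Set Γ(U, ⊤))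
    (hF : ∀ y ∈ F, ∃ c, φ.appTop c = y) (x : Γ(pullback (terminal.from U) (terminal.from V), ⊤))
    (hx : x ∈ Subring.closure ((pullback.fst (terminal.from U) (terminal.from V)).appTop '' F ∪
      Set.range (pullback.snd (terminal.from U) (terminal.from V)).appTop)) :
    ∃ y, (pullback.lift (pullback.fst _ _ ≫ φ) (pullback.snd _ _) (terminal.hom_ext _ _) :
      pullback (terminal.from U) (terminal.from V) ⟶ pullback (terminal.from A) (terminal.from V)).appTop y = x := by
  refine (Subring.closure_le (t := (pullback.lift (pullback.fst _ _ ≫ φ) (pullback.snd _ _) (terminal.hom_ext _ _) :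
    pullback (terminal.from U) (terminal.from V) ⟶ pullback (terminal.from A) (terminal.from V)).appTop.hom.range)).2
      ?_ hx
  rintro _ (⟨y, hy, rfl⟩ | ⟨y, rfl⟩)
  · obtain ⟨c, rfl⟩ := hF y hy
    refine ⟨(pullback.fst (terminal.from A) (terminal.from V)).appTop c, ?_⟩
    rw [← CategoryTheory.comp_apply, ← Scheme.Hom.comp_appTop, pullback.lift_fst, Scheme.Hom.comp_appTop,
      CategoryTheory.comp_apply]
  · exact ⟨(pullback.snd (terminal.from A) (terminal.from V)).appTop y, by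
      rw [← CategoryTheory.comp_apply, ← Scheme.Hom.comp_appTop, pullback.lift_snd]⟩

theorem appLE_appTop {X Y Z : Scheme.{u}} (f : X ⟶ Y) (g : Y ⟶ Z) (O : X.Opens) (c : Γ(Z, ⊤)) :
    f.appLE ⊤ O le_top (g.appTop c) = (f ≫ g).appLE ⊤ O le_top c := by
  rw [Scheme.Hom.comp_appLE]
  rfl

theorem appLE_res {X Y : Scheme.{u}} (f : X ⟶ Y) (O' : Y.Opens) (O : X.Opens) (e : O ≤ f ⁻¹ᵁ O')
    (i : O' ≤ ⊤) (c : Γ(Y, ⊤)) :
    f.appLE O' O e (Y.presheaf.map (homOfLE i).op c) = f.appLE ⊤ O le_top c := by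
  rw [← CategoryTheory.comp_apply, Scheme.Hom.map_appLE]

set_option maxHeartbeats 1600000 in
/-- An immersion into a product of affine schemes whose projection to the second factor is locally of finite
type stays an immersion when the first factor is projected to an affine space by suitable functions. -/
theorem exists_immersion {Q U V : Scheme.{u}} [IsAffine U] [IsAffine V] [CompactSpace Q] (sU : Q ⟶ U) (sV : Q ⟶ V)
    [LocallyOfFiniteType sV]
    [IsImmersion (pullback.lift sU sV (terminal.hom_ext _ _) : Q ⟶ pullback (terminal.from U) (terminal.from V))] :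
    ∃ (n : ℕ) (b : Fin n → Γ(U, ⊤)),
      IsImmersion (pullback.lift (sU ≫ (toSpecMvPolyIntEquiv (ULift.{u} (Fin n))).symm fun i => b i.down) sV
        (terminal.hom_ext _ _) :
          Q ⟶ pullback (terminal.from (Spec (CommRingCat.of (MvPolynomial (ULift.{u} (Fin n)) (ULift.{u} ℤ)))))
            (terminal.from V)) := by
  classical
  let P := pullback (terminal.from U) (terminal.from V)
  let p₁ : P ⟶ U := pullback.fst _ _
  let p₂ : P ⟶ V := pullback.snd _ _
  let ι : Q ⟶ P := pullback.lift sU sV (terminal.hom_ext _ _)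
  have : IsImmersion ι := ‹_›
  let W := ι.coborderRange
  -- basic opens covering the image inside the open where it is closed
  have hloc : ∀ z : Q, ∃ h : Γ(P, ⊤), P.basicOpen h ≤ W ∧ ι z ∈ P.basicOpen h := fun z => by
    obtain ⟨_, ⟨_, ⟨h, rfl⟩, rfl⟩, hz, hsub⟩ := (isBasis_basicOpen P).exists_subset_of_mem_open
      (show ι z ∈ W from subset_coborder ⟨z, rfl⟩) W.2
    exact ⟨h, hsub, hz⟩
  choose h hW hzh using hloc
  obtain ⟨J, hJ⟩ := isCompact_univ.elim_finite_subcover (fun z : Q => ((ι ⁻¹ᵁ P.basicOpen (h z)) : Set Q))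
    (fun z => (ι ⁻¹ᵁ P.basicOpen (h z)).2) (fun z _ => Set.mem_iUnion.2 ⟨z, hzh z⟩)
  have hcl : ∀ z, IsClosedImmersion (ι ∣_ P.basicOpen (h z)) := fun z => by
    have h0 : IsClosedImmersion (ι ∣_ W) := by
      have e0 : (ι ⁻¹ᵁ W).ι ≫ ι.liftCoborder = ι ∣_ W := by
        rw [← cancel_mono W.ι, Category.assoc, morphismRestrict_ι]
        exact congrArg ((ι ⁻¹ᵁ W).ι ≫ ·) ι.liftCoborder_ι
      have : Surjective (ι ⁻¹ᵁ W).ι := ⟨fun q => ⟨⟨q, subset_coborder ⟨q, rfl⟩⟩, rfl⟩⟩
      have : Epi (ι ⁻¹ᵁ W).ι.base := (TopCat.epi_iff_surjective _).2 (ι ⁻¹ᵁ W).ι.surjective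
      have : IsIso (ι ⁻¹ᵁ W).ι := IsOpenImmersion.isIso _
      rw [← e0]; infer_instance
    have h1 : IsClosedImmersion (ι ∣_ W ∣_ (W.ι ⁻¹ᵁ P.basicOpen (h z))) :=
      IsZariskiLocalAtTarget.restrict h0 _
    have h2 : IsClosedImmersion (ι ∣_ W.ι ''ᵁ (W.ι ⁻¹ᵁ P.basicOpen (h z))) :=
      (MorphismProperty.arrow_mk_iso_iff @IsClosedImmersion (morphismRestrictRestrict ι W _)).1 h1
    have e : W.ι ''ᵁ (W.ι ⁻¹ᵁ P.basicOpen (h z)) = P.basicOpen (h z) := by
      rw [Scheme.Hom.image_preimage_eq_opensRange_inf, Scheme.Opens.opensRange_ι, inf_eq_right.2 (hW z)]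
    rwa [MorphismProperty.arrow_mk_iso_iff @IsClosedImmersion (morphismRestrictEq ι e)] at h2
  have hgen : ∀ z, ∃ s : Finset Γ(P, ⊤), ∀ R : Subring Γ(Q, ι ⁻¹ᵁ P.basicOpen (h z)),
      (∀ v, sV.appLE ⊤ (ι ⁻¹ᵁ P.basicOpen (h z)) le_top v ∈ R) →
      (∀ a ∈ s, ι.appLE ⊤ (ι ⁻¹ᵁ P.basicOpen (h z)) le_top a ∈ R) →
      (∀ r, r * ι.appLE ⊤ (ι ⁻¹ᵁ P.basicOpen (h z)) le_top (h z) = 1 → r ∈ R) → R = ⊤ := fun z => by
    let O := P.basicOpen (h z)
    have hO : IsAffineOpen O := (isAffineOpen_top P).basicOpen _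
    have hc := hcl z
    have : IsAffine (O : Scheme.{u}) := hO
    have hOQ : IsAffineOpen (ι ⁻¹ᵁ O) := (isAffine_of_isAffineHom (ι ∣_ O) :)
    have hft := sV.finiteType_appLE (isAffineOpen_top V) hOQ le_top
    let : Algebra Γ(V, ⊤) Γ(Q, ι ⁻¹ᵁ O) := (sV.appLE ⊤ (ι ⁻¹ᵁ O) le_top).hom.toAlgebra
    obtain ⟨g, hg⟩ := (hft : Algebra.FiniteType Γ(V, ⊤) Γ(Q, ι ⁻¹ᵁ O)).out
    have hsurj : Function.Surjective (ι.app O) := by
      intro y
      have h3 := (ι ∣_ O).app_surjective ⊤ (isAffineOpen_top _)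
      rw [morphismRestrict_app] at h3
      obtain ⟨x, hx⟩ := h3 ((Q.presheaf.map (eqToHom (image_morphismRestrict_preimage ι O ⊤)).op) (
        (Q.presheaf.map (eqToHom (by rw [Scheme.Opens.ι_image_top] : ι ⁻¹ᵁ (O.ι ''ᵁ ⊤) = ι ⁻¹ᵁ O)).op) y))
      rw [CategoryTheory.comp_apply] at hx
      replace hx := (ConcreteCategory.bijective_of_isIso
        (Q.presheaf.map (eqToHom (image_morphismRestrict_preimage ι O ⊤)).op)).1 hx
      refine ⟨(P.presheaf.map (eqToHom (Scheme.Opens.ι_image_top O).symm).op) x, ?_⟩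
      have e := congr($(ι.naturality (eqToHom (Scheme.Opens.ι_image_top O).symm).op) x)
      rw [CategoryTheory.comp_apply, CategoryTheory.comp_apply] at e
      refine e.trans ?_
      refine (congrArg _ hx).trans ?_
      rw [← CategoryTheory.comp_apply, ← Functor.map_comp]
      have hid : ∀ m : Opposite.op (ι ⁻¹ᵁ O) ⟶ Opposite.op (ι ⁻¹ᵁ O), Q.presheaf.map m y = y := fun m => by
        rw [Subsingleton.elim m (𝟙 _)]; simp
      exact hid _
    have hnum : ∀ y : Γ(Q, ι ⁻¹ᵁ O), ∃ (a : Γ(P, ⊤)) (k : ℕ),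
        y * ι.appLE ⊤ (ι ⁻¹ᵁ O) le_top (h z) ^ k = ι.appLE ⊤ (ι ⁻¹ᵁ O) le_top a := fun y => by
      obtain ⟨x, rfl⟩ := hsurj y
      have := (isAffineOpen_top P).isLocalization_basicOpen (h z)
      obtain ⟨⟨a, _, k, rfl⟩, hak⟩ := IsLocalization.surj (Submonoid.powers (h z)) x
      refine ⟨a, k, ?_⟩
      have e := congrArg (ι.app O) hak
      rw [map_mul] at e
      have e' : ∀ c : Γ(P, ⊤), ι.app O (algebraMap Γ(P, ⊤) Γ(P, O) c) = ι.appLE ⊤ (ι ⁻¹ᵁ O) le_top c := fun c => by
        change ι.app O (P.presheaf.map (homOfLE (P.basicOpen_le (h z))).op c) = _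
        rw [← CategoryTheory.comp_apply, Scheme.Hom.app_eq_appLE, Scheme.Hom.map_appLE]
      rw [e' (h z ^ k), map_pow, e' a] at e
      exact e
    choose a k hak using hnum
    refine ⟨g.image a, fun R hRV hRs hRh => ?_⟩
    have hu : IsUnit (ι.appLE ⊤ (ι ⁻¹ᵁ O) le_top (h z)) := by
      have h1 := Q.toRingedSpace.isUnit_res_basicOpen (ι.appTop (h z))
      have h2 : ι ⁻¹ᵁ O = Q.basicOpen (ι.appTop (h z)) := Scheme.preimage_basicOpen ι (h z)
      have h3 := h1.map (Q.presheaf.map (eqToHom h2).op).hom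
      change IsUnit ((Q.presheaf.map (homOfLE (Q.basicOpen_le _)).op ≫ Q.presheaf.map (eqToHom h2).op)
        (ι.appTop (h z))) at h3
      rw [← Functor.map_comp] at h3
      exact h3
    obtain ⟨r, hr⟩ := hu.exists_left_inv
    have hgR : ∀ y ∈ g, y ∈ R := fun y hy => by
      have e : y = ι.appLE ⊤ (ι ⁻¹ᵁ O) le_top (a y) * r ^ k y := by
        rw [← hak y, mul_assoc, ← mul_pow, mul_comm _ r, hr, one_pow, mul_one]
      rw [e]
      exact R.mul_mem (hRs _ (Finset.mem_image_of_mem a hy)) (R.pow_mem (hRh r hr) _)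
    refine eq_top_iff.2 fun y _ => ?_
    let R' : Subalgebra Γ(V, ⊤) Γ(Q, ι ⁻¹ᵁ O) := { R with algebraMap_mem' := hRV }
    have : (⊤ : Subalgebra Γ(V, ⊤) Γ(Q, ι ⁻¹ᵁ O)) ≤ R' := by
      rw [← hg]
      exact Algebra.adjoin_le fun y hy => hgR y hy
    exact this (Algebra.mem_top (x := y))
  choose s hs using hgen

  -- the functions
  have hmem : ∀ x : Γ(P, ⊤), ∃ F : Finset Γ(U, ⊤),
      x ∈ Subring.closure (p₁.appTop '' F ∪ Set.range p₂.appTop) := fun x => by
    have hx : x ∈ Subring.closure (Set.range p₁.appTop ∪ Set.range p₂.appTop) := by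
      rw [closure_eq_top]; trivial
    refine Subring.closure_induction ?_ ?_ ?_ ?_ ?_ ?_ hx
    · rintro y (⟨b, rfl⟩ | hy)
      · exact ⟨{b}, Subring.subset_closure (Or.inl ⟨b, Finset.mem_singleton_self b, rfl⟩)⟩
      · exact ⟨∅, Subring.subset_closure (Or.inr hy)⟩
    · exact ⟨∅, Subring.zero_mem _⟩
    · exact ⟨∅, Subring.one_mem _⟩
    · rintro y y' - - ⟨F, hF⟩ ⟨F', hF'⟩
      exact ⟨F ∪ F', Subring.add_mem _ (Subring.closure_mono (by gcongr; simp) hF)
        (Subring.closure_mono (by gcongr; simp) hF')⟩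
    · rintro y - ⟨F, hF⟩
      exact ⟨F, Subring.neg_mem _ hF⟩
    · rintro y y' - - ⟨F, hF⟩ ⟨F', hF'⟩
      exact ⟨F ∪ F', Subring.mul_mem _ (Subring.closure_mono (by gcongr; simp) hF)
        (Subring.closure_mono (by gcongr; simp) hF')⟩
  choose F hF using hmem
  let B : Finset Γ(U, ⊤) := (J.biUnion fun z => insert (h z) (s z)).biUnion F
  let b : Fin B.card → Γ(U, ⊤) := fun i => (B.equivFin.symm i).1
  refine ⟨B.card, b, ?_⟩
  let A := Spec (CommRingCat.of (MvPolynomial (ULift.{u} (Fin B.card)) (ULift.{u} ℤ)))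
  let φ : U ⟶ A := (toSpecMvPolyIntEquiv _).symm fun i => b i.down
  let g : P ⟶ pullback (terminal.from A) (terminal.from V) :=
    pullback.lift (p₁ ≫ φ) p₂ (terminal.hom_ext _ _)
  let κ : Q ⟶ pullback (terminal.from A) (terminal.from V) :=
    pullback.lift (sU ≫ φ) sV (terminal.hom_ext _ _)
  have hκ : ι ≫ g = κ := by
    apply pullback.hom_ext <;> simp [ι, g, κ, p₁, p₂]
  change IsImmersion κ
  have hrange : ∀ z ∈ J, ∀ x ∈ insert (h z) (s z), ∃ y, g.appTop y = x := fun z hz x hx => by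
    have hsub : F x ⊆ B := fun w hw => Finset.mem_biUnion.2 ⟨x, Finset.mem_biUnion.2 ⟨z, hz, hx⟩, hw⟩
    refine exists_appTop_lift φ B (fun y hy => ?_) x (Subring.closure_mono (Set.union_subset_union_left _
      (Set.image_mono (Finset.coe_subset.2 hsub))) (hF x))
    obtain ⟨i, hi⟩ := B.equivFin.symm.surjective ⟨y, hy⟩
    have e1 := appTop_symm_apply (fun i : ULift.{u} (Fin B.card) => b i.down) ⟨i⟩
    have e2 : b i = y := congrArg Subtype.val hi
    exact ⟨_, e1.trans e2⟩
  choose y hy using hrange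
  have : MorphismProperty.RespectsRight @IsImmersion.{u} @IsOpenImmersion :=
    ⟨fun i hi f hf => by
      have : IsOpenImmersion i := hi
      have : IsImmersion f := hf
      exact inferInstanceAs (IsImmersion (f ≫ i))⟩
  refine IsZariskiLocalAtTarget.of_range_subset_iSup (P := @IsImmersion)
    (fun z : {z // z ∈ J} => (pullback (terminal.from A) (terminal.from V)).basicOpen
      (y z.1 z.2 (h z.1) (Finset.mem_insert_self _ _))) ?_ fun z => ?_
  · rintro _ ⟨q, rfl⟩
    obtain ⟨z, hz, hqz⟩ := Set.mem_iUnion₂.1 (hJ (Set.mem_univ q))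
    refine TopologicalSpace.Opens.mem_iSup.2 ⟨⟨z, hz⟩, ?_⟩
    change ι q ∈ P.basicOpen (h z) at hqz
    rw [← hy z hz (h z) (Finset.mem_insert_self _ _)] at hqz
    rw [← hκ]
    have e := Scheme.preimage_basicOpen g (y z hz (h z) (Finset.mem_insert_self _ _))
    exact (e ▸ hqz : ι q ∈ g ⁻¹ᵁ _)
  obtain ⟨z, hz⟩ := z
  let y₀ := y z hz (h z) (Finset.mem_insert_self _ _)
  let O' := (pullback (terminal.from A) (terminal.from V)).basicOpen y₀
  have hO' : κ ⁻¹ᵁ O' = ι ⁻¹ᵁ P.basicOpen (h z) := by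
    rw [← hκ, Scheme.Hom.comp_preimage, Scheme.preimage_basicOpen]
    exact congrArg (fun x => ι ⁻¹ᵁ P.basicOpen x) (hy _ _ _ _)
  have : IsAffine (O' : Scheme.{u}) := (isAffineOpen_top _).basicOpen y₀
  have : IsAffine (κ ⁻¹ᵁ O' : Scheme.{u}) := by
    have := hcl z
    have : IsAffine (P.basicOpen (h z) : Scheme.{u}) := (isAffineOpen_top _).basicOpen _
    rw [hO']
    exact isAffine_of_isAffineHom (ι ∣_ P.basicOpen (h z))
  suffices IsClosedImmersion (κ ∣_ O') from inferInstance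
  refine IsClosedImmersion.of_surjective_of_isAffine _ ?_
  rw [morphismRestrict_appTop]
  intro x
  let R : Subring Γ(Q, ι ⁻¹ᵁ P.basicOpen (h z)) := (κ.appLE O' (ι ⁻¹ᵁ P.basicOpen (h z)) hO'.ge).hom.range
  have hres : ∀ c, ι.appLE ⊤ (ι ⁻¹ᵁ P.basicOpen (h z)) le_top (g.appTop c) ∈ R := fun c => by
    refine ⟨(pullback (terminal.from A) (terminal.from V)).presheaf.map (homOfLE le_top).op c, ?_⟩
    rw [appLE_appTop, hκ]
    exact appLE_res _ _ _ _ _ _
  have hR : R = ⊤ := by
    refine hs z R (fun v => ?_) (fun a ha => ?_) fun r hr => ?_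
    · have : ι.appLE ⊤ (ι ⁻¹ᵁ P.basicOpen (h z)) le_top (p₂.appTop v) =
          sV.appLE ⊤ (ι ⁻¹ᵁ P.basicOpen (h z)) le_top v := by
        rw [appLE_appTop]
        simp [ι, p₂]
      rw [← this, ← show g.appTop ((pullback.snd (terminal.from A) (terminal.from V)).appTop v) = p₂.appTop v by
        rw [← CategoryTheory.comp_apply, ← Scheme.Hom.comp_appTop, pullback.lift_snd]]
      exact hres _
    · rw [← hy z hz a (Finset.mem_insert_of_mem ha)]
      exact hres _
    · have hu : IsUnit ((pullback (terminal.from A) (terminal.from V)).presheaf.map (homOfLE le_top).op y₀ :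
          Γ(pullback (terminal.from A) (terminal.from V), O')) :=
        (pullback (terminal.from A) (terminal.from V)).toRingedSpace.isUnit_res_basicOpen y₀
      obtain ⟨c, hc⟩ := hu.exists_left_inv
      refine ⟨c, ?_⟩
      have e := congrArg (κ.appLE O' (ι ⁻¹ᵁ P.basicOpen (h z)) hO'.ge) hc
      rw [map_mul, map_one] at e
      have e2 : κ.appLE O' (ι ⁻¹ᵁ P.basicOpen (h z)) hO'.ge
          ((pullback (terminal.from A) (terminal.from V)).presheaf.map (homOfLE le_top).op y₀) =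
          ι.appLE ⊤ (ι ⁻¹ᵁ P.basicOpen (h z)) le_top (h z) := by
        refine (appLE_res κ _ _ hO'.ge _ y₀).trans ?_
        refine Eq.trans ?_ (congrArg _ (hy z hz (h z) (Finset.mem_insert_self _ _)))
        rw [appLE_appTop, hκ]
      rw [e2] at e
      exact left_inv_eq_right_inv e (by rw [mul_comm]; exact hr)
  have heq : κ ⁻¹ᵁ (O'.ι ''ᵁ ⊤) = ι ⁻¹ᵁ P.basicOpen (h z) := by rw [Scheme.Opens.ι_image_top, hO']
  let jQ := Q.presheaf.map (eqToHom (image_morphismRestrict_preimage κ O' ⊤)).op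
  have hbij := ConcreteCategory.bijective_of_isIso jQ
  obtain ⟨x', rfl⟩ := hbij.2 x
  obtain ⟨c, hc⟩ : Q.presheaf.map (eqToHom heq.symm).op x' ∈ R := by rw [hR]; trivial
  refine ⟨(pullback (terminal.from A) (terminal.from V)).presheaf.map (eqToHom O'.ι_image_top).op c, ?_⟩
  rw [CategoryTheory.comp_apply]
  congr 1
  apply (ConcreteCategory.bijective_of_isIso (Q.presheaf.map (eqToHom heq.symm).op)).1
  refine Eq.trans ?_ hc
  have e3 : (pullback (terminal.from A) (terminal.from V)).presheaf.map (eqToHom O'.ι_image_top).op ≫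
      κ.app (O'.ι ''ᵁ ⊤) ≫ Q.presheaf.map (eqToHom heq.symm).op = κ.appLE O' _ hO'.ge := by
    rw [Scheme.Hom.app_eq_appLE, Scheme.Hom.appLE_map, Scheme.Hom.map_appLE]
  exact congr($e3 c)

end Groth.Agent.AlgSpB.AffEmb
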