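import Groth.Agent.AlgSpB.AffEmb.Basic
import Groth.Agent.AlgSpB.Diag
import Groth.Agent.AlgSpB.Open
import Groth.Agent.AlgSp.LimImm2
import Groth.Agent.AlgSp.DescentImm
import Groth.Agent.AlgSp.DescentSepLqf

/-!
# Immersions into affine spaces over an algebraic space
-/

universe u

open CategoryTheory CategoryTheory.Limits AlgebraicGeometry
open _root_.AlgSp Groth.Agent.AlgSpB AffineSpace

set_option autoImplicit false
set_option backward.isDefEq.respectTransparency false
set_option backward.isDefEq.respectTransparency.types false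

namespace Groth.Agent.AlgSpB.AffEmb

variable {S : Scheme.{u}}

theorem isPullback_lift_map {C : Type*} [Category C] [HasBinaryProducts C] {Q U V X A : C} {t : Q ⟶ U}
    {s : Q ⟶ V} {f : U ⟶ X} {a : V ⟶ X} (sq : IsPullback t s f a) (c : U ⟶ A) :
    IsPullback t (prod.lift s (t ≫ c)) (prod.lift f c) (prod.map a (𝟙 A)) := by
  have key : ∀ z : PullbackCone (prod.lift f c) (prod.map a (𝟙 A)),
      z.fst ≫ f = (z.snd ≫ prod.fst) ≫ a ∧ z.fst ≫ c = z.snd ≫ prod.snd := fun z => by
    have h1 := congrArg (· ≫ prod.fst) z.condition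
    have h2 := congrArg (· ≫ prod.snd) z.condition
    simp only [Category.assoc, prod.lift_fst, prod.lift_snd, prod.map_fst, prod.map_snd, Category.comp_id] at h1 h2 ⊢
    exact ⟨h1, h2⟩
  refine IsPullback.of_isLimit' ⟨by ext <;> simp [sq.w]⟩
    (PullbackCone.IsLimit.mk _ (fun z => sq.lift z.fst (z.snd ≫ prod.fst) (key z).1)
      (fun z => sq.lift_fst _ _ _) (fun z => ?_) (fun z m h1 h2 => ?_))
  · ext
    · simp
    · simp [(key z).2]
  · exact sq.hom_ext (by rw [h1, sq.lift_fst]) (by rw [sq.lift_snd, ← h2]; simp)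

theorem isPullback_of_comp_mono {C : Type*} [Category C] {Q U V X Y : C} {t : Q ⟶ U}
    {s : Q ⟶ V} {f : U ⟶ X} {a : V ⟶ X} (j : X ⟶ Y) [Mono j] (sq : IsPullback t s (f ≫ j) (a ≫ j)) :
    IsPullback t s f a :=
  IsPullback.of_isLimit' ⟨(cancel_mono j).1 (by simpa using sq.w)⟩
    (PullbackCone.IsLimit.mk _ (fun z => sq.lift z.fst z.snd (by rw [reassoc_of% z.condition]))
      (fun z => sq.lift_fst _ _ _) (fun z => sq.lift_snd _ _ _)
      (fun z m h1 h2 => sq.hom_ext (by rw [h1, sq.lift_fst]) (by rw [h2, sq.lift_snd])))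

/-- An affine scheme over a space immerses into an affine space over it as soon as its fibre product with an
affine chart covering its image immerses into the product over the base. -/
theorem exists_immersion_affineSpace (X : Space S) {U V Q : Over S} [IsAffine U.left] [IsAffine V.left]
    (f : (yon S).obj U ⟶ X.obj) (a : (yon S).obj V ⟶ X.obj) (ha : RepWith @Etale a)
    (hKa : Set.range (Points.ofPt f) ⊆ Set.range (Points.ofPt a)) {q₁ : Q ⟶ U} {q₂ : Q ⟶ V}
    (h0 : IsPullback ((yon S).map q₁) ((yon S).map q₂) f a) [CompactSpace Q.left]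
    [LocallyOfFiniteType q₂.left] [IsImmersion (pairHom q₁ q₂)] :
    ∃ (n : ℕ) (i : (yon S).obj U ⟶ X.obj ⨯ (yon S).obj (Over.mk (𝔸(ULift.{u} (Fin n); S) ↘ S))),
      i ≫ prod.fst = f ∧ RepWith @IsImmersion i := by
  obtain ⟨X', j, hj, hjr⟩ := exists_openSubspace X (W := Set.range (Points.ofPt a))
    (by rw [← Set.image_univ]; exact isOpenMap_ofPt ha _ isOpen_univ)
  obtain ⟨a', rfl, ha'e, ha's⟩ := exists_chart_into_subspace ha hj hjr
  obtain ⟨f', rfl⟩ := exists_lift_yon_of_isOpenImmersion hj f (hjr ▸ hKa)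
  have := mono_of_isOpenImmersion hj
  have : IsImmersion (pullback.lift q₁.left q₂.left (terminal.hom_ext _ _) :
      Q.left ⟶ pullback (terminal.from U.left) (terminal.from V.left)) := by
    have e : (pullback.lift q₁.left q₂.left (terminal.hom_ext _ _) :
        Q.left ⟶ pullback (terminal.from U.left) (terminal.from V.left)) =
        pairHom q₁ q₂ ≫ pullback.mapDesc U.hom V.hom (terminal.from S) ≫
          (pullback.congrHom (terminal.hom_ext _ _) (terminal.hom_ext _ _)).hom := by
      apply pullback.hom_ext <;> simp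
    rw [e]
    infer_instance
  obtain ⟨n, b, hb⟩ := Groth.Agent.AlgSpB.AffEmb.exists_immersion q₁.left q₂.left
  let A : Over S := Over.mk (𝔸(ULift.{u} (Fin n); S) ↘ S)
  let c : U ⟶ A := Over.homMk (AffineSpace.homOfVector U.hom fun i => b i.down) (AffineSpace.homOfVector_over _ _)
  have sq := isPullback_lift_map (isPullback_of_comp_mono j.hom h0) ((yon S).map c)
  let κ : Q ⟶ V ⨯ A := prod.lift q₂ (q₁ ≫ c)
  have hκ : IsImmersion κ.left := by
    let m : (V ⨯ A).left ⟶ pullback (terminal.from (Spec (CommRingCat.of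
        (MvPolynomial (ULift.{u} (Fin n)) (ULift.{u} ℤ))))) (terminal.from V.left) :=
      pullback.lift ((prod.snd : V ⨯ A ⟶ A).left ≫ AffineSpace.toSpecMvPoly _ S)
        (prod.fst : V ⨯ A ⟶ V).left (terminal.hom_ext _ _)
    have e : κ.left ≫ m = pullback.lift
        (q₁.left ≫ (AffineSpace.toSpecMvPolyIntEquiv (ULift.{u} (Fin n))).symm fun i => b i.down) q₂.left
        (terminal.hom_ext _ _) := by
      apply pullback.hom_ext
      · simp only [m, Category.assoc, pullback.lift_fst]
        rw [← Over.comp_left_assoc, prod.lift_snd, Over.comp_left, Category.assoc]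
        exact congrArg (q₁.left ≫ ·) (AffineSpace.homOfVector_toSpecMvPoly _ _)
      · simp only [m, Category.assoc, pullback.lift_snd]
        rw [← Over.comp_left, prod.lift_fst]
    have : IsImmersion (κ.left ≫ m) := e ▸ hb
    exact IsImmersion.of_comp κ.left m
  let e : (yon S).obj (V ⨯ A) ⟶ X'.obj ⨯ (yon S).obj A := prodComparison (yon S) V A ≫ prod.map a' (𝟙 _)
  have sq' : IsPullback ((yon S).map q₁) ((yon S).map κ) (prod.lift f' ((yon S).map c)) e := by
    refine sq.of_iso (Iso.refl _) (Iso.refl _) (asIso (prodComparison (yon S) V A)).symm (Iso.refl _) ?_ ?_ ?_ ?_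
    · simp
    · rw [Iso.refl_hom, Category.id_comp, Iso.symm_hom, asIso_inv, IsIso.comp_inv_eq]
      ext <;> simp [κ, ← Functor.map_comp]
    · simp
    · simp [e]
  have : Sheaf.IsLocallySurjective a' := Groth.Agent.AlgSp.isLocallySurjective_of_etale_surjective a' ha'e ha's
  have : Sheaf.IsLocallySurjective (prod.map a' (𝟙 ((yon S).obj A))) :=
    Groth.Agent.AlgSp.isLocallySurjective_prodMap _ _
  have : Sheaf.IsLocallySurjective e := inferInstance
  have hi' := Groth.Agent.AlgSp.repWith_isImmersion_of_baseChange _ e sq' ((repWith_yon_map_iff _ _).2 hκ)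
  refine ⟨n, prod.lift f' ((yon S).map c) ≫ prod.map j.hom (𝟙 _), by simp, ?_⟩
  refine MorphismProperty.comp_mem _ _ _ hi' ?_
  refine Groth.Agent.AlgSp.repWith_mono (fun g hg => (have : IsOpenImmersion g := hg; inferInstance : IsImmersion g))
    (MorphismProperty.of_isPullback (P := RepWith @IsOpenImmersion) (IsPullback.of_isLimit' ⟨prod.map_fst _ _⟩ ?_).flip hj)
  refine PullbackCone.IsLimit.mk _ (fun z => prod.lift z.snd (z.fst ≫ prod.snd)) (fun z => ?_) (fun z => ?_)
    (fun z k h1 h2 => ?_)
  · apply prod.hom_ext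
    · simpa using z.condition.symm
    · simp
  · simp
  · apply prod.hom_ext
    · simpa using h2
    · rw [prod.lift_snd, ← h1, Category.assoc, prod.map_snd, Category.comp_id]

end Groth.Agent.AlgSpB.AffEmb
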